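import Mathlib
import Cfsg.Agent.Lib.MOrb.Sext

/-!
# Hexads and quartets of a dodecad
-/

set_option autoImplicit false
set_option maxRecDepth 100000

namespace CfsgLib.MOrb

open Cfsg CfsgLib.Golay
open scoped Pointwise

theorem smul_mem_hexadsOn (g : M24) {d h : Finset GolayPt} (hh : h ∈ hexadsOn d) :
    g • h ∈ hexadsOn (g • d) := by
  obtain ⟨h1, o, ho, rfl⟩ := hh
  exact ⟨by rwa [Finset.card_smul_finset], g • o, (smul_mem_octads_iff g).2 ho,
    Finset.smul_finset_inter.symm⟩

theorem smul_mem_hexadsOn_iff (g : M24) {d h : Finset GolayPt} :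
    g • h ∈ hexadsOn (g • d) ↔ h ∈ hexadsOn d :=
  ⟨fun hh => by simpa using smul_mem_hexadsOn g⁻¹ hh, smul_mem_hexadsOn g⟩

theorem smul_mem_quartets (g : M24) {d : Finset GolayPt} {Q : Finset (Finset GolayPt)}
    (hQ : Q ∈ quartets d) : g • Q ∈ quartets (g • d) := by
  refine ⟨by rw [Finset.card_smul_finset, hQ.1], ?_, ?_⟩
  · intro o ho
    obtain ⟨x, hx, rfl⟩ := Finset.mem_smul_finset.1 ho
    exact ⟨by rw [Finset.card_smul_finset, (hQ.2.1 x hx).1],
      Finset.smul_finset_subset_smul_finset (hQ.2.1 x hx).2⟩
  · intro o ho o' ho' hne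
    obtain ⟨x, hx, rfl⟩ := Finset.mem_smul_finset.1 ho
    obtain ⟨y, hy, rfl⟩ := Finset.mem_smul_finset.1 ho'
    rw [← Finset.smul_finset_union]
    exact smul_mem_hexadsOn g (hQ.2.2 x hx y hy fun e => hne (by rw [e]))

theorem smul_mem_quartets_iff (g : M24) {d : Finset GolayPt} {Q : Finset (Finset GolayPt)} :
    g • Q ∈ quartets (g • d) ↔ Q ∈ quartets d :=
  ⟨fun hh => by simpa using smul_mem_quartets g⁻¹ hh, smul_mem_quartets g⟩

theorem subset_of_mem_hexadsOn {d h : Finset GolayPt} (hh : h ∈ hexadsOn d) : h ⊆ d := by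
  obtain ⟨-, o, -, rfl⟩ := hh
  exact Finset.inter_subset_right

/-- table of the pairs that complete the hexads of `D0` to octads -/
def hexTbl : ℕ := 0x280000000000000000008020000000000000000000000000000000000000000000000000100800100400500000004020000000000000000000000000000000000000000000000000000000120000000000800800000000000000000000000000000000000000000000000000000000000000000000000000000000400400a000000200200000000000000000000000000000001080000000000000000204001040000000000000000000000000000000000000000000008000800000000000000000000000000000000000000000000000000000000000000000000000000000000000001000800000000000000000000000000000000000000000000000006000000000000000000044000000000000000000000084000000000000000000002200008000200000008800000000000000000000000000004000800000000000000000000000000000000000000000000000000000000000000000000000000000000000000000002080000000000000000000002040000000002008000000000000000004800000000000000000000000000000000000000000000000000000000000000808000000004800000000000000000000000000000000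000000000000000000000040800000000a0000000000008080000000000000000000000000000000000000000000000000000000000000000000000000000000000000800400000000000000000000000000000000000000088000000000020080000000084000000880000000c000000000000000000000000000000000000004200000000000000000000000008200002000200000000000003000000000000000000000000000000000000000000000000000000000000000000800200000000000000000000000000000000000000000000000008080000000000000000000008040000000000000000000000000000000000000000000a000000000000000000000000000000000000000000042000000000000000000000000000000000000000000000000000000000000000000082000000000000000000000000000000000000018000000000000000000000000000000000040800000000000480000000040400010002000000020040000000000000000000002800000000008008000880002400000000000000000000000000000000008040000000000000000000000000000000020008000000000000000000000000000000040002000000000000090000000000002080000c000000c00000000000000000000000000000000000000000000000000400800000000000000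

/-- test for hexads of `D0` -/
noncomputable def hexB (h : ℕ) : Bool :=
  and (Nat.beq (pc h) 6) (frc (Nat.lor h (get 24 hexTbl (Nat.mod (syn h) 327))) fun o =>
    and (and (isCode o) (Nat.beq (pc o) 8)) (Nat.beq (Nat.land o D0) h))

theorem hexB_iff {h : ℕ} (hh : h < 2 ^ 24) : ofMask h ∈ hexadsOn (ofMask D0) ↔ hexB h = true := by
  constructor
  · rintro ⟨h1, o, ho, e⟩
    obtain ⟨m, hm, h8, rfl⟩ := exists_octad_mask ho
    rw [← ofMask_land] at e
    have e' := ofMask_injOn (lt_of_le_of_lt Nat.and_le_left (lt_of_isCode hm)) hh e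
    rw [card_ofMask hh] at h1
    have key : allLT 4096 (fun k => or (not (and (Nat.beq (pc (cw k)) 8)
        (Nat.beq (pc (Nat.land (cw k) D0)) 6))) (hexB (Nat.land (cw k) D0))) = true := by
      decide +kernel
    have := of_allLT key (Nat.mod_lt m (by norm_num))
    rw [isCode_iff.1 hm, show Nat.land m D0 = h from e', h8, h1] at this
    simpa using this
  · intro hb
    simp only [hexB, frc_eq, Bool.and_eq_true, Nat.beq_eq] at hb
    obtain ⟨h1, ⟨h2, h3⟩, h4⟩ := hb
    refine ⟨by rw [card_ofMask hh, h1], _, (ofMask_mem_octads (lt_of_isCode h2)).2 ⟨h2, h3⟩, ?_⟩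
    rw [← ofMask_land]
    exact congrArg ofMask h4

/-- test for codes of quartets of `D0` -/
noncomputable def isQB (m : ℕ) : Bool :=
  and (okBb 4 m) (allLT 4 fun i => and (and (Nat.beq (pc (blk m i)) 3)
    (Nat.beq (Nat.land (blk m i) D0) (blk m i)))
    (allLT 4 fun j => or (Nat.beq i j) (hexB (Nat.lor (blk m i) (blk m j)))))

theorem fam_mem_quartets {m : ℕ} (h : isQB m = true) : fam 4 m ∈ quartets (ofMask D0) := by
  simp only [isQB, Bool.and_eq_true, allLT_iff, Nat.beq_eq, Bool.or_eq_true] at h
  refine ⟨(okB_of h.1).card, ?_, ?_⟩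
  · intro o ho
    obtain ⟨i, hi, rfl⟩ := mem_fam.1 ho
    exact ⟨by rw [card_ofMask (blk_lt _ _), (h.2 i hi).1.1], ofMask_subset (h.2 i hi).1.2⟩
  · intro o ho o' ho' hne
    obtain ⟨i, hi, rfl⟩ := mem_fam.1 ho
    obtain ⟨j, hj, rfl⟩ := mem_fam.1 ho'
    rcases (h.2 i hi).2 j hj with rfl | e
    · exact absurd rfl hne
    · rw [← ofMask_lor]
      exact (hexB_iff (Nat.or_lt_two_pow (blk_lt _ _) (blk_lt _ _))).2 e

/-- code of the standard quartet; it contains `{0, 1, 2}` -/
def Q0 : ℕ := 1276663464188692137680830471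

/-- the four quartets that contain `{0, 1, 2}` -/
def Qs : List ℕ := [Q0, 1258491798975919663217639431, 1547727283083644861367189511,
  1240433467309389122365292551]

theorem Qs_mem : ∀ q ∈ Qs, fam 4 q ∈ quartets (ofMask D0) ∧ ofMask 7 ∈ fam 4 q := by
  have h : allL Qs (fun q => and (isQB q) (Nat.beq (blk q 0) 7)) = true := by decide +kernel
  intro q hq
  have := (allL_iff _ _).1 h q hq
  rw [Bool.and_eq_true, Nat.beq_eq] at this
  exact ⟨fam_mem_quartets this.1, mem_fam.2 ⟨0, by norm_num, by rw [this.2]⟩⟩

theorem Q0_mem : fam 4 Q0 ∈ quartets (ofMask D0) := (Qs_mem Q0 List.mem_cons_self).1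

theorem quartet_std {u : Finset GolayPt} (hu : u.card = 3) (hh : ofMask 7 ∪ u ∈ hexadsOn (ofMask D0)) :
    ∃ q ∈ Qs, u ∈ fam 4 q ∧
      ∀ Q ∈ quartets (ofMask D0), ofMask 7 ∈ Q → u ∈ Q → Q = fam 4 q := by
  obtain ⟨a, ha, rfl⟩ := exists_mask u
  have key : allS 3 (fun a => Bool.rec true (anyL Qs fun q => and (anyLT 4 fun i => Nat.beq (blk q i) a)
      (allS 3 fun b => Bool.rec true (anyLT 4 fun i => Nat.beq (blk q i) b)
        (and (hexB (Nat.lor 7 b)) (hexB (Nat.lor a b))))) (hexB (Nat.lor 7 a))) = true := by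
    decide +kernel
  have h1 := of_allS key ha (by rw [← card_ofMask ha, hu])
  rw [← ofMask_lor, hexB_iff (Nat.or_lt_two_pow (by norm_num) ha)] at hh
  have hh' : hexB (Nat.lor 7 a) = true := hh
  simp only [hh', anyL_iff, Bool.and_eq_true, anyLT_iff, Nat.beq_eq] at h1
  obtain ⟨q, hq, ⟨i, hi, e⟩, h2⟩ := h1
  have hu' : ofMask a ∈ fam 4 q := mem_fam.2 ⟨i, hi, by rw [e]⟩
  refine ⟨q, hq, hu', fun Q hQ h7 hQa => Finset.eq_of_subset_of_card_le (fun v hv => ?_)
    (by rw [(Qs_mem q hq).1.1, hQ.1])⟩
  by_cases c1 : ofMask 7 = v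
  · exact c1 ▸ (Qs_mem q hq).2
  by_cases c2 : ofMask a = v
  · exact c2 ▸ hu'
  obtain ⟨b, hb, rfl⟩ := exists_mask v
  have h3 := of_allS h2 hb (by rw [← card_ofMask hb, (hQ.2.1 _ hv).1])
  have h4 := hQ.2.2 _ h7 _ hv c1
  have h5 := hQ.2.2 _ hQa _ hv c2
  rw [← ofMask_lor, hexB_iff (Nat.or_lt_two_pow (by first | exact ha | norm_num) hb)] at h4 h5
  have h4' : hexB (Nat.lor 7 b) = true := h4
  have h5' : hexB (Nat.lor a b) = true := h5
  simp only [h4', h5', Bool.and_self, anyLT_iff, Nat.beq_eq] at h3
  obtain ⟨j, hj, e⟩ := h3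
  exact mem_fam.2 ⟨j, hj, by rw [e]⟩

theorem trans_dod_triple {d t : Finset GolayPt} (hd : d ∈ dodecads) (ht : t.card = 3) (htd : t ⊆ d) :
    ∃ g : M24, g • ofMask D0 = d ∧ g • ofMask 7 = t := by
  obtain ⟨x, y, z, hxy, hxz, hyz, rfl⟩ := Finset.card_eq_three.1 ht
  obtain ⟨g, h1, h2, h3, h4⟩ := trans_dod_in3 hd (x := x) (y := y) (z := z) (htd (by simp))
    (htd (by simp)) (htd (by simp)) hxy hxz hyz
  refine ⟨g, h1, ?_⟩
  have : ofMask 7 = {pt 0, pt 1, pt 2} := by decide
  rw [this, Finset.smul_finset_insert, Finset.smul_finset_insert, Finset.smul_finset_singleton,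
    h2, h3, h4]

theorem existsUnique_quartet {d t u : Finset GolayPt} (hd : d ∈ dodecads) (ht : t.card = 3)
    (hu : u.card = 3) (hh : t ∪ u ∈ hexadsOn d) : ∃! Q, Q ∈ quartets d ∧ t ∈ Q ∧ u ∈ Q := by
  obtain ⟨g, rfl, rfl⟩ := trans_dod_triple hd ht
    (Finset.subset_union_left.trans (subset_of_mem_hexadsOn hh))
  obtain ⟨u, rfl⟩ := MulAction.surjective g u
  rw [← Finset.smul_finset_union, smul_mem_hexadsOn_iff] at hh
  obtain ⟨q, hq, h1, h2⟩ := quartet_std (by simpa using hu) hh
  refine ⟨g • fam 4 q, ⟨smul_mem_quartets g (Qs_mem q hq).1,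
    Finset.smul_mem_smul_finset (Qs_mem q hq).2, Finset.smul_mem_smul_finset h1⟩, ?_⟩
  rintro Q ⟨a, b, c⟩
  obtain ⟨Q, rfl⟩ := MulAction.surjective g Q
  rw [h2 Q ((smul_mem_quartets_iff g).1 a) (Finset.smul_mem_smul_finset_iff g |>.1 b)
    (Finset.smul_mem_smul_finset_iff g |>.1 c)]

theorem trans_quartet {d : Finset GolayPt} (hd : d ∈ dodecads) {Q : Finset (Finset GolayPt)}
    (hQ : Q ∈ quartets d) : ∃ g : M24, g • ofMask D0 = d ∧ g • fam 4 Q0 = Q := by
  obtain ⟨t, ht, u, hu, htu⟩ := Finset.one_lt_card.1 (show 1 < Q.card by rw [hQ.1]; norm_num)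
  obtain ⟨g, rfl, rfl⟩ := trans_dod_triple hd (hQ.2.1 t ht).1 (hQ.2.1 t ht).2
  obtain ⟨Q, rfl⟩ := MulAction.surjective g Q
  obtain ⟨u, rfl⟩ := MulAction.surjective g u
  rw [smul_mem_quartets_iff] at hQ
  rw [Finset.smul_mem_smul_finset_iff] at ht hu
  obtain ⟨q, hq, -, h2⟩ := quartet_std (hQ.2.1 u hu).1 (hQ.2.2 _ ht _ hu fun e => htu (by rw [e]))
  rw [h2 Q hQ ht hu]
  have key : allL Qs (fun q => anyL [984818244535754528103549039458486304, 443549960358834307207076630661351692, 943997182993834985299755915001857088, 445461734797282248356451547974209842] fun p =>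
      and (okG [D0] [p]) (eqB 4 (actB 4 p Q0) q)) = true := by decide +kernel
  obtain ⟨p, -, hp⟩ := (anyL_iff _ _).1 ((allL_iff _ _).1 key q hq)
  rw [Bool.and_eq_true] at hp
  obtain ⟨h3, h4⟩ := okG_spec hp.1 List.mem_cons_self
  exact ⟨g * mk p, h4.mul_smul_mask g (by simp), by rw [mul_smul, ← fam_actB h3, fam_eq_iff.2 hp.2]⟩

/-- the stabiliser of the standard dodecad -/
abbrev HD : Subgroup M24 := MulAction.stabilizer M24 (ofMask D0)

/-- the stabiliser of the standard dodecad and the standard quartet -/
abbrev HQ : Subgroup M24 := HD ⊓ MulAction.stabilizer M24 (fam 4 Q0)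

theorem orbit_D0 : MulAction.orbit M24 (ofMask D0) = dodecads :=
  Set.ext fun _ => ⟨fun ⟨g, e⟩ => e ▸ (smul_mem_dodecads_iff g).2 D0_mem, trans_dod⟩

theorem card_HD : Nat.card HD = 95040 := by
  have h1 := card_stabilizer (x := ofMask D0) rfl
  rw [orbit_D0, ncard_dodecads] at h1
  change 2576 * Nat.card HD = _ at h1
  omega

theorem smul_mem_quartets' {g : M24} (hg : g ∈ HD) {Q : Finset (Finset GolayPt)}
    (hQ : Q ∈ quartets (ofMask D0)) : g • Q ∈ quartets (ofMask D0) := by
  have := smul_mem_quartets g hQ
  rwa [show g • ofMask D0 = ofMask D0 from hg] at this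

theorem card_HD_eq : Nat.card HD = (quartets (ofMask D0)).ncard * Nat.card HQ :=
  Mathieu.card_eq_of_orbit HD (fam 4 Q0) _ (fun _ h => trans_quartet D0_mem h)
    fun _ hg => smul_mem_quartets' hg Q0_mem

/-- stabiliser chain for `HQ` -/
def chQ : List (ℕ × List ℕ) := [(0, [217373794081790090800660706060481033, 476986777881379292747292814254053512]), (3, [486349973926430203268823274221996064, 630161413940232624948760093364880448]), (6, [228001363311221454468151101670655040, 233233386906768391987032901617288256])]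

theorem chQ_mem : ∀ p ∈ cgens chQ, okP p = true ∧ mk p ∈ HQ :=
  okF_mem (F := [D0]) (k := 4) (m := Q0) (by decide +kernel) fun _ h e => ⟨h _ List.mem_cons_self, e⟩

theorem chQ_ok : chkChain chQ 432 = true := by decide +kernel

theorem ncard_quartets_le : (quartets (ofMask D0)).ncard ≤ 220 := by
  have h1 := card_HD_eq
  have h2 := card_ge_of_chain chQ_mem chQ_ok
  rw [card_HD] at h1
  by_contra hc
  have := Nat.mul_le_mul (show 221 ≤ (quartets (ofMask D0)).ncard by omega) h2
  omega

/-- representatives of the suborbits -/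
def repQ : Fin 5 → ℕ := ![Q0, 1258491798975919663217639431, 1276644573448242040521359371,
  1239224544874229415658127371, 1257585102374045712939745291]

theorem repQ_mem (i : Fin 5) : fam 4 (repQ i) ∈ quartets (ofMask D0) :=
  fam_mem_quartets (by revert i; decide +kernel)

theorem suborbits_Q0 :
    (∀ i, (MulAction.orbit HQ (fam 4 (repQ i))).ncard = (![1, 12, 27, 72, 108] : Fin 5 → ℕ) i) ∧
    (quartets (ofMask D0) = ⋃ i, MulAction.orbit HQ (fam 4 (repQ i))) ∧
    Pairwise (Function.onFun Disjoint fun i => MulAction.orbit HQ (fam 4 (repQ i))) :=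
  suborbitsS (F := fun b => Nat.mul b b) (H := chd 257 61 0x20024001b002200070000009b000200040009000300000007000000020005001000070006000200000006004f00360007000700180001000300060007000200100001005c003900070013001c00060006000000050058002600130004000200000010000c000800340001000e000900030012000500080001)
    (gens := [435448343473050800973518634131833132, 731686305031343677272880461440361872])
    (m0 := Q0) (N := 257) repQ _
    (okF_mem (F := [D0]) (k := 4) (m := Q0) (by decide +kernel)
      fun _ h e => ⟨h _ List.mem_cons_self, e⟩) (fun _ h => h.2) (by decide +kernel)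
    (by decide +kernel) repQ_mem (fun _ hg _ h => smul_mem_quartets' hg.1 h) ncard_quartets_le

theorem ncard_quartets : (quartets (ofMask D0)).ncard = 220 := by
  obtain ⟨h1, h2, h3⟩ := suborbits_Q0
  rw [h2, Set.ncard_iUnion_of_finite (fun _ => Set.toFinite _) h3, finsum_eq_sum_of_fintype,
    Finset.sum_congr rfl fun i _ => h1 i]
  rfl

theorem card_HQ : Nat.card HQ = 432 := by
  have h1 := card_HD_eq
  rw [card_HD, ncard_quartets] at h1
  omega

theorem quartets_smul (g : M24) (d : Finset GolayPt) : quartets (g • d) = g • quartets d := by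
  ext Q
  rw [Set.mem_smul_set_iff_inv_smul_mem, ← smul_mem_quartets_iff g (d := d), smul_inv_smul]

theorem mem_HQ_conj (g k : M24) : k ∈ MulAction.stabilizer M24 (g • ofMask D0) ⊓
    MulAction.stabilizer M24 (g • fam 4 Q0) ↔ g⁻¹ * k * g ∈ HQ := by
  rw [Subgroup.mem_inf, Subgroup.mem_inf, mem_stabilizer_smul, mem_stabilizer_smul]

end CfsgLib.MOrb
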